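import Cfsg.Agent.Mrg.Omega.VP
import Cfsg.Agent.Mrg.Omega.FrameI
import Cfsg.Agent.Mrg.RankTwoClose.Braid
import Cfsg.Agent.Mrg.ParSys.Par
import Cfsg.Agent.Mrg.ParSys.FreeTrans
import Cfsg.Agent.Mrg.Omega.Lin.TIClose


/-!
# OMEGA: the closings as one interface (1): from a BN-pair of a subgroup to `IsKnownSimple'`

`Ctx G`, `Full S` are those of `Omega.Frame`.

* `eq_top_of_norm`: a nontrivial subgroup normalised by all members of `L(S)` is `G`;
* `BN2 X`, `BN3 X`: `X` has a split BN-pair (of rank at least one), an irreducible BN-pair of rank at least 3;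
* `known_of_bn2`, `known_of_bn3`: such a subgroup `X`, normalised by all members of `L(S)`, closes the case.
-/

set_option autoImplicit false

namespace Cfsg.Agent.Omega.Close.Base

open Subgroup Cfsg Cfsg.Agent.ZN Cfsg.Agent.Omega.MinPar Cfsg.Agent.Omega.Frame
open Cfsg.Agent.Omega.Exits (St1143 St1144 known_lie)

universe u

variable {G : Type u} [Group G]

/-! ### Subgroups which are the whole group -/

/-- A simple group is known if the subgroup `X = G` is. -/
theorem known_of_eq_top [IsSimpleGroup G] (hna : ¬ IsMulCommutative G) {X : Subgroup G} (hX : X = ⊤)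
    (h : IsSimpleGroup X → ¬ IsMulCommutative X → IsKnownSimple' X) : IsKnownSimple' G := by
  have e : X ≃* G := (MulEquiv.subgroupCongr hX).trans Subgroup.topEquiv
  have hs : IsSimpleGroup X := OddHalf.Known.isSimple_congr e.symm inferInstance
  have hn := Exits.not_comm_congr e.symm hna
  exact OddHalf.Known.isKnownSimple'_congr e hn (h hs hn)

/-- A nontrivial subgroup normalised by all members of `L(S)` is the whole group. -/
theorem eq_top_of_norm [Finite G] (hG : Ctx G) {S : Sylow 2 G} (hF : Full (S : Subgroup G))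
    {X : Subgroup G} (hX : X ≠ ⊥)
    (h : ∀ L : Subgroup G, IsLoc (S : Subgroup G) L → L ≤ normalizer (X : Set G)) : X = ⊤ := by
  have := hG.simple
  have h1 : X.Normal := normalizer_eq_top_iff.mp (hF _ h)
  exact h1.eq_bot_or_eq_top.resolve_left hX

/-- The same in terms of the minimal parabolic subgroups and of `N_G(S)`. -/
theorem eq_top_of_par [Finite G] (hG : Ctx G) {S : Sylow 2 G} (hF : Full (S : Subgroup G))
    {X : Subgroup G} (hX : X ≠ ⊥)
    (hN : normalizer ((S : Subgroup G) : Set G) ≤ normalizer (X : Set G))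
    (hP : ∀ P : Subgroup G, IsPar (S : Subgroup G) P → P ≤ normalizer (X : Set G)) : X = ⊤ := by
  have := hG.simple
  have h1 : X.Normal := normalizer_eq_top_iff.mp (hF.eq_top hN hP)
  exact h1.eq_bot_or_eq_top.resolve_left hX

/-! ### BN-pairs on subgroups -/

/-- `X` has a split BN-pair of rank at least one. -/
def BN2 (X : Type u) [Group X] : Prop := ∃ Q : BNPair X, 1 ≤ Q.rank ∧ Q.IsSplit

/-- `X` has an irreducible BN-pair of rank at least three. -/
def BN3 (X : Type u) [Group X] : Prop := ∃ Q : BNPair X, 3 ≤ Q.rank ∧ Q.Irreducible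

/-- A group with a BN-pair of positive rank is not trivial. -/
theorem nontrivial_of_rank (Q : BNPair G) (h : 1 ≤ Q.rank) : Nontrivial G := by
  by_contra hcon
  rw [not_nontrivial_iff_subsingleton] at hcon
  have h1 : Nonempty Q.S := by
    rw [← not_isEmpty_iff]
    intro h0
    have : Q.rank = 0 := Nat.card_of_isEmpty
    omega
  obtain ⟨s, hs⟩ := h1
  apply Q.conj_ne s hs
  ext x
  constructor
  · intro _
    rw [Subsingleton.elim x 1]
    exact Q.B.one_mem
  · intro _
    exact ⟨1, Q.B.one_mem, Subsingleton.elim _ _⟩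

theorem BN2.ne_bot {X : Subgroup G} (h : BN2 X) : X ≠ ⊥ := by
  obtain ⟨Q, hr, -⟩ := h
  have := nontrivial_of_rank Q hr
  exact (Subgroup.nontrivial_iff_ne_bot X).mp this

theorem BN3.ne_bot {X : Subgroup G} (h : BN3 X) : X ≠ ⊥ := by
  obtain ⟨Q, hr, -⟩ := h
  have := nontrivial_of_rank Q (by omega)
  exact (Subgroup.nontrivial_iff_ne_bot X).mp this

section bn

variable [Finite G]

/-- Simple groups with a split BN-pair are known. -/
theorem BN2.known (h44 : St1144.{u}) [IsSimpleGroup G] (h : BN2 G) : IsKnownSimple' G := by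
  obtain ⟨Q, hr, hs⟩ := h
  exact known_lie (h44 G Q hr hs)

/-- Simple groups with an irreducible BN-pair of rank at least three are known. -/
theorem BN3.known (h43 : St1143.{u}) [IsSimpleGroup G] (h : BN3 G) : IsKnownSimple' G := by
  obtain ⟨Q, hr, hs⟩ := h
  exact known_lie (h43 G Q hr hs)

/-- **Closing (rank two)**: a subgroup with a split BN-pair normalised by all members of `L(S)`. -/
theorem known_of_bn2 (h44 : St1144.{u}) (hG : Ctx G) {S : Sylow 2 G} (hF : Full (S : Subgroup G))
    {X : Subgroup G} (hX : BN2 X)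
    (h : ∀ L : Subgroup G, IsLoc (S : Subgroup G) L → L ≤ normalizer (X : Set G)) :
    IsKnownSimple' G := by
  have := hG.simple
  refine known_of_eq_top hG.nonComm (eq_top_of_norm hG hF hX.ne_bot h) fun hs _ => ?_
  exact hX.known h44

/-- **Closing (rank at least three)**: a subgroup with an irreducible BN-pair normalised by all members
of `L(S)`. -/
theorem known_of_bn3 (h43 : St1143.{u}) (hG : Ctx G) {S : Sylow 2 G} (hF : Full (S : Subgroup G))
    {X : Subgroup G} (hX : BN3 X)
    (h : ∀ L : Subgroup G, IsLoc (S : Subgroup G) L → L ≤ normalizer (X : Set G)) :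
    IsKnownSimple' G := by
  have := hG.simple
  refine known_of_eq_top hG.nonComm (eq_top_of_norm hG hF hX.ne_bot h) fun hs _ => ?_
  exact hX.known h43

/-- `known_of_bn2`, with `N_G(S)` and `P(S)`. -/
theorem known_of_bn2' (h44 : St1144.{u}) (hG : Ctx G) {S : Sylow 2 G} (hF : Full (S : Subgroup G))
    {X : Subgroup G} (hX : BN2 X)
    (hN : normalizer ((S : Subgroup G) : Set G) ≤ normalizer (X : Set G))
    (hP : ∀ P : Subgroup G, IsPar (S : Subgroup G) P → P ≤ normalizer (X : Set G)) :
    IsKnownSimple' G := by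
  have := hG.simple
  refine known_of_eq_top hG.nonComm (eq_top_of_par hG hF hX.ne_bot hN hP) fun hs _ => ?_
  exact hX.known h44

/-- `known_of_bn3`, with `N_G(S)` and `P(S)`. -/
theorem known_of_bn3' (h43 : St1143.{u}) (hG : Ctx G) {S : Sylow 2 G} (hF : Full (S : Subgroup G))
    {X : Subgroup G} (hX : BN3 X)
    (hN : normalizer ((S : Subgroup G) : Set G) ≤ normalizer (X : Set G))
    (hP : ∀ P : Subgroup G, IsPar (S : Subgroup G) P → P ≤ normalizer (X : Set G)) :
    IsKnownSimple' G := by
  have := hG.simple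
  refine known_of_eq_top hG.nonComm (eq_top_of_par hG hF hX.ne_bot hN hP) fun hs _ => ?_
  exact hX.known h43

end bn

/-- The subgroup generated by subgroups which `N` permutes is normalised by `N`. -/
theorem le_normalizer_iSup {I : Type*} {N : Subgroup G} {P : I → Subgroup G}
    (h : ∀ g ∈ N, ∀ i, ∀ x ∈ P i, g * x * g⁻¹ ∈ ⨆ j, P j) : N ≤ normalizer ((⨆ i, P i : Subgroup G) : Set G) := by
  have key : ∀ g ∈ N, ∀ x ∈ (⨆ i, P i : Subgroup G), g * x * g⁻¹ ∈ (⨆ i, P i : Subgroup G) := by
    intro g hg x hx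
    induction hx using Subgroup.iSup_induction' with
    | hp i x hx => exact h g hg i x hx
    | h1 => simp
    | hmul x y _ _ hx hy =>
      have e : g * (x * y) * g⁻¹ = (g * x * g⁻¹) * (g * y * g⁻¹) := by group
      rw [e]
      exact mul_mem hx hy
  intro g hg
  rw [mem_normalizer_iff]
  intro x
  refine ⟨key g hg x, fun hx => ?_⟩
  have h1 := key g⁻¹ (inv_mem hg) _ hx
  have e : g⁻¹ * (g * x * g⁻¹) * g⁻¹⁻¹ = x := by group
  rwa [e] at h1

end Cfsg.Agent.Omega.Close.Base
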